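import Cfsg.Agent.H951.S5.TPan
import Cfsg.Agent.H798.T5Asm

/-!
# Own characteristic: assembly of the strong row (S2274)

`srow_of` : `SRow` from common types (or strong pairs) for pairs of inner elements, and outer elements of all types.
-/

set_option autoImplicit false
set_option linter.unusedSectionVars false
set_option maxHeartbeats 400000

namespace Cfsg.Agent.H951.S5.Asm

open Cfsg CoxeterSystem Cfsg.Agent.ChevalleyStructure.CoxeterGeom Cfsg.Agent.Tits.Roots Cfsg.Agent.Tits.Core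
  Cfsg.Agent.Tits.Core.Bldg
  Cfsg.Agent.Tits.OfBN Cfsg.Agent.Schreier.BNSch Cfsg.Agent.Tits.OppRes Cfsg.Agent.FixBN.OfBN
  Cfsg.Agent.Tits.RootComb Cfsg.Agent.Nodes.Comb Cfsg.Agent.Nodes.Reps Cfsg.Agent.Nodes.BNOf
  Cfsg.Agent.Nodes.StabComb Cfsg.Agent.Nodes.Bruhat Cfsg.Agent.Nodes.OppDec Cfsg.Agent.Nodes.LeviDec
  Cfsg.Agent.LieExceptional.BNPairCore
open Cfsg.Agent.H460.Typed Cfsg.Agent.H460.EllC Cfsg.Agent.H460.PanL
  Cfsg.Agent.H185.TypedTw Cfsg.Agent.H460.EllPan Cfsg.Agent.H460.Engine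
open Cfsg.Agent.H533.T5 Cfsg.Agent.H132.S5
open Cfsg.Agent.H798.T5Geo Cfsg.Agent.H798.T5Pan Cfsg.Agent.H798.T5Tp Cfsg.Agent.H798.T5Asm Cfsg.Agent.H951.S5.TPan

variable {K : Type*} [Group K] [Finite K] {ℓ : ℕ} [Fact ℓ.Prime] {l : ℕ} {M : CoxeterMatrix (Fin l)} {Q : Fin l → ℕ}
  {A : Fin l → Fin l → ℤ} {h : IsCartan M A} {T : Subgroup K} {n : Fin l → K}
  {X : (Fin l → ℤ) → Subgroup K} [Finite M.Group]

variable (R : RGD M.toCoxeterSystem h ℓ T n X) {E : Eng ℓ K M Q} (hB : E.P.B = RGD.B M.toCoxeterSystem h T X)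
  (he : ∀ i, (E.e i : K) = n i)

include R hB he

/-- a common type -/
theorem spair_of_TP (hrow : ∀ i, RowTwo ℓ (Q i)) (hF : ∀ i, FNode E.P E.U (E.e i : K) (Q i)) {c d : MulAut K}
    (hc : orderOf c = ℓ) (hd : orderOf d = ℓ) {i : Fin l} (hci : TP E c i) (hdi : TP E d i) :
    SPair ℓ (MulAut.conj : K →* MulAut K).range c d :=
  TP.spair (hrow i) (hF i) hci hdi hc hd

/-- **A common type, inner automorphisms.** -/
theorem spair_of_NT (hrow : ∀ i, RowTwo ℓ (Q i)) (hF : ∀ i, FNode E.P E.U (E.e i : K) (Q i)) {x y : K}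
    (hx : orderOf (MulAut.conj x) = ℓ) (hy : orderOf (MulAut.conj y) = ℓ) {i : Fin l}
    (h1 : NT M.toCoxeterSystem h X x i) (h2 : NT M.toCoxeterSystem h X y i) :
    SPair ℓ (MulAut.conj : K →* MulAut K).range (MulAut.conj x) (MulAut.conj y) :=
  spair_of_TP R hB he hrow hF hx hy (tp_of_NT R hB he h1) (tp_of_NT R hB he h2)

/-- **The strong row.** -/
theorem srow_of [IsSimpleGroup K] [Nonempty (Fin l)] (hcc : ∃ a b : K, a * b ≠ b * a)
    (hG : GG M.toCoxeterSystem h T X = ⊤) (hrow : ∀ i, RowTwo ℓ (Q i))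
    (hF : ∀ i, FNode E.P E.U (E.e i : K) (Q i))
    (hin : ∀ x y : K, orderOf x = ℓ → orderOf y = ℓ →
      (∃ i, NT M.toCoxeterSystem h X x i ∧ NT M.toCoxeterSystem h X y i) ∨ SPair ℓ (⊤ : Subgroup K) x y)
    (hout : ∀ c : MulAut K, orderOf c = ℓ → (∃ g : K, c = MulAut.conj g) ∨ ∀ i, TP E c i) : SRow ℓ K := by
  obtain ⟨i0⟩ := (inferInstance : Nonempty (Fin l))
  have hNT : ∀ x : K, x ^ ℓ = 1 → x ≠ 1 → ∃ i, NT M.toCoxeterSystem h X x i := by
    intro x hx hx1
    refine exists_NT R hG ?_ hx1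
    rw [IsPGroup.iff_card]
    refine ⟨1, ?_⟩
    rw [Nat.card_zpowers, pow_one, orderOf_eq_prime hx hx1]
  have hinj : Function.Injective (MulAut.conj : K →* MulAut K) := by
    rw [injective_iff_map_eq_one]
    intro x hx
    by_contra hx1
    rcases (inferInstance : (MulAut.conj : K →* MulAut K).ker.Normal).eq_bot_or_eq_top with h3 | h3
    · apply hx1
      rw [← Subgroup.mem_bot, ← h3]
      exact hx
    · obtain ⟨a, b, hab⟩ := hcc
      apply hab
      have h4 : a ∈ (MulAut.conj : K →* MulAut K).ker := h3 ▸ Subgroup.mem_top a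
      have h5 : a * b * a⁻¹ = b := by
        have := congrArg (fun f : MulAut K => f b) (MonoidHom.mem_ker.1 h4)
        simpa using this
      calc a * b = a * b * a⁻¹ * a := by group
        _ = b * a := by rw [h5]
  intro c d hc hd
  rcases hout c hc with hc1 | hc1
  · obtain ⟨x, rfl, hx, hx1⟩ := exists_of_inner hcc hc1 hc
    rcases hout d hd with hd1 | hd1
    · obtain ⟨y, rfl, hy, hy1⟩ := exists_of_inner hcc hd1 hd
      rcases hin x y (orderOf_eq_prime hx hx1) (orderOf_eq_prime hy hy1) with ⟨i, h1, h2⟩ | h1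
      · exact spair_of_NT R hB he hrow hF hc hd h1 h2
      · have h2 := h1.of_injective (MulAut.conj : K →* MulAut K) hinj
        rwa [← MonoidHom.range_eq_map] at h2
    · obtain ⟨i, hi⟩ := hNT x hx hx1
      exact spair_of_TP R hB he hrow hF hc hd (tp_of_NT R hB he hi) (hd1 i)
  · rcases hout d hd with hd1 | hd1
    · obtain ⟨y, rfl, hy, hy1⟩ := exists_of_inner hcc hd1 hd
      obtain ⟨i, hi⟩ := hNT y hy hy1
      exact spair_of_TP R hB he hrow hF hc hd (hc1 i) (tp_of_NT R hB he hi)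
    · exact spair_of_TP R hB he hrow hF hc hd (hc1 i0) (hd1 i0)

end Cfsg.Agent.H951.S5.Asm
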