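import Cfsg.Agent.H951.S5.TPan
import Cfsg.Agent.H140.S5.PSL2Own

/-!
# `RowTwo` : the strong rows of `PSL₂(F)` in the defining characteristic, from the black boxes
-/

set_option autoImplicit false

universe u

namespace Cfsg.Agent.H951.S5.TPan

open Cfsg.Agent.H533.T5 Cfsg.Agent.H132.S5 Cfsg.Agent.H106.MT Cfsg.Agent.H106.MB

theorem rowTwo_of {p : ℕ} (hp : p.Prime) (h5 : 5 ≤ p) (B : SBox.{u} p) (Q : ℕ) : RowTwo p Q := by
  intro F _ _ _ _
  have := Fintype.ofFinite F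
  have e : ULift.{u} (Matrix.ProjectiveSpecialLinearGroup (Fin 2) F) ≃*
      Matrix.ProjectiveSpecialLinearGroup (Fin 2) F := MulEquiv.ulift
  exact Cfsg.Agent.H897.T5Sub.SRow.congr e
    (Cfsg.Agent.H140.S5.PSL2Own.srow_psl2_own' (F := F) hp h5 B.aa B.rs e)

end Cfsg.Agent.H951.S5.TPan
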