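import Cfsg.Agent.H951.S5.D4Pair
import Cfsg.Agent.H951.S5.Asm
import Cfsg.Agent.H951.S5.RowTwo

/-!
# `³D₄(q)` in its own characteristic: the strong row (S2274, O6)

* `spair_special` : the special pairs;
* `srow_D4`, `srow_twD4_own` : the strong row.
-/

set_option autoImplicit false
set_option linter.unusedSectionVars false
set_option maxHeartbeats 400000

universe u

namespace Cfsg.Agent.H951.S5.TwD

open CoxeterSystem Cfsg.Agent.ChevalleyStructure.CoxeterGeom Cfsg.Agent.Tits.Roots Cfsg.Agent.Tits.Core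
  Cfsg.Agent.Nodes.BNOf Cfsg.Agent.Nodes.RGDTwGen Cfsg.Agent.Nodes.RGDChev Cfsg.Agent.Nodes.RGDFold
open Cfsg.Agent.Nodes.Reps Cfsg.Agent.Nodes.StabComb Cfsg.Agent.Nodes.LeviDec
open Cfsg.Lie Cfsg.Agent.ChevalleyStructure
open Cfsg.Agent.Nodes.RGDTwD4 (isCartan X T n)
open Cfsg.Agent.H533.T5 Cfsg.Agent.H132.S5
open Cfsg.Agent.H798.T5Geo Cfsg.Agent.H798.T5Pan Cfsg.Agent.H798.T5Tp Cfsg.Agent.H798.T5Asm Cfsg.Agent.H798.T5Tw
open Cfsg.Agent.H798.T5Untw (comm_of_not)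
open Cfsg.Agent.H951.S5.TPan Cfsg.Agent.H951.S5.Asm
open Cfsg.Agent.KFacts.TwDFour.Out (KD)

variable {K : Type} [Field K] [Fintype K] (p : ℕ) [Fact p.Prime] [CharP K p] {q : ℕ} {φ : K →+* K}
  (hφ : ∀ x, φ x = x ^ q) (hK : Fintype.card K = q ^ 3)

local notation "cG" => CoxeterMatrix.toCoxeterSystem CoxeterMatrix.G₂

include hφ hK

/-- **The special pairs.** -/
theorem spair_special (h5 : 5 ≤ p) {x y : ↥(twistedD4 K q)} (hx : orderOf x = p)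
    (hx0 : NT cG isCartan (X φ q) x 0) (hx1 : ¬ NT cG isCartan (X φ q) x 1)
    (hy1 : NT cG isCartan (X φ q) y 1) (hy0 : ¬ NT cG isCartan (X φ q) y 0) :
    SPair p (⊤ : Subgroup ↥(twistedD4 K q)) x y := by
  have hp : p.Prime := Fact.out
  have hW := finW_D4
  have R := Nodes.RGDTwD4.rgd cG hK hφ p
  obtain ⟨g0, h1, h2⟩ := hx0
  obtain ⟨g1, h3, h4⟩ := hy1
  refine SPair.conj_left (s := g0) (Subgroup.mem_top _) (SPair.conj_right (s := g1) (Subgroup.mem_top _) ?_)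
  have ho : orderOf (g0 * x * g0⁻¹) = p := by
    rw [← MulAut.conj_apply, MulEquiv.orderOf_eq, hx]
  have hx1' : ¬ NT cG isCartan (X φ q) (g0 * x * g0⁻¹) 1 := fun h => hx1 (h.of_conj g0)
  have hd : ∀ g ∈ PJ cG isCartan (T K q) (X φ q) {0},
      g * (g1 * y * g1⁻¹) * g⁻¹ ∈ RGD.Sup (X φ q) (RGD.Pos cG isCartan) ∧
        g * (g1 * y * g1⁻¹) * g⁻¹ ∉ VJ cG isCartan (X φ q) {1} := by
    intro g hg
    refine ⟨VJ_le_U _ ((P_conj_V R hg).2 (mem_V_of_not_NT hy0 g1 h3)), fun hV => ?_⟩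
    obtain ⟨e, he1, he2⟩ := H798.T5Bond.exists_ball_of_mem R (i := 0) (j := 1) h4 hy0 ⟨g, hg, hV⟩
    refine H798.T5GFour.ball_false_of_G2 R ⟨by decide, by decide, by decide, intComm_D4 p hφ hK⟩
      (fun k => by fin_cases k <;> simp) h5 (e := e * y * e⁻¹) (fun h6 => he1 (by rw [h6]; exact one_mem _)) he2 ?_
    exact fun h6 => hy0 (h6.of_conj e)
  refine SPair.mk' hp (D4Pair.apair_only hK hφ h5 ho h1 h2 hx1' hd) ?_
  obtain ⟨g, hg⟩ := H106.MTwD4.prod_only hK hφ cG h5 h1 h2 hd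
  exact ⟨g, Subgroup.mem_top _, hg⟩

/-- **`SRow` of `³D₄(q)`.** -/
theorem srow_D4 (h5 : 5 ≤ p) (hq : IsPrimePow q) [IsSimpleGroup ↥(twistedD4 K q)]
    (hna : ¬ IsMulCommutative ↥(twistedD4 K q)) (hrow : ∀ Q, RowTwo p Q) : SRow p ↥(twistedD4 K q) := by
  have hp : p.Prime := Fact.out
  have hW := finW_D4
  have R := Cfsg.Agent.Nodes.RGDTwD4.rgd cG hK hφ p
  have hG1 := Nodes.RGDTwD4.G1_eq_top cG hK hφ
  obtain ⟨E, hB, he, hF⟩ := exists_eng_of (Q := fun i => Nat.card (KD φ i)) R (gen_D4 p hφ hK)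
    (Cfsg.Agent.FixBN.TwGood.isSolvable_T Nodes.RGDTwD4.hp) (fun i => fnode_D4 p hφ hK i) (by norm_num)
  refine srow_of R hB he (comm_of_not hna) (KFacts.RgdFilt.GG_eq_top (T := T K q) hG1) (fun i => hrow _) hF ?_
    (fun c hc => hout_D4 p hφ hK hB he (by omega) (by omega) hq hc)
  intro x y hx hy
  have px : ∀ {x : ↥(twistedD4 K q)}, orderOf x = p → x ^ p = 1 := fun h => by rw [← h, pow_orderOf_eq_one]
  have nx : ∀ {x : ↥(twistedD4 K q)}, orderOf x = p → x ≠ 1 := by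
    rintro x h rfl
    rw [orderOf_one] at h
    exact hp.one_lt.ne h
  rcases cases_D4 p hφ hK (px hx) (px hy) (nx hx) (nx hy) with h1 | ⟨h1, h2, h3, h4⟩ | ⟨h1, h2, h3, h4⟩
  · exact Or.inl h1
  · exact Or.inr (spair_special p hφ hK h5 hx h1 h2 h3 h4)
  · exact Or.inr (spair_special p hφ hK h5 hy h1 h2 h3 h4).symm

omit hφ hK in
omit φ in
/-- **The strong row of `³D₄(q)`, `p ≥ 5` dividing `q`.** -/
theorem srow_twD4_own (hp : p.Prime) (h5 : 5 ≤ p) (B : SBox.{u} p) (hq : IsPrimePow q)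
    (hK : Fintype.card K = q ^ 3) {S : Type u} [Group S] (e : S ≃* ↥(twistedD4 K q)) : SRow p S := by
  obtain ⟨hs, hna⟩ := Cfsg.Agent.S1071.result hq hK
  obtain ⟨φ, hφ⟩ := D4Fixed.exists_frob hq hK
  exact Cfsg.Agent.H897.T5Sub.SRow.congr e.symm (srow_D4 p hφ hK h5 hq hna (fun Q => rowTwo_of hp h5 B Q))

end Cfsg.Agent.H951.S5.TwD
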