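import Cfsg.Agent.H951.S5.Asm
import Cfsg.Agent.H798.T5Tw
import Cfsg.Agent.H862.T5.E6Pair
import Cfsg.Agent.H951.S5.RowTwo

/-!
# `²E₆(q)` in its own characteristic: the strong row (S2274, O6)

* `spair_of_NT` : elements of order `p` acting non-trivially on panels of the types `1`, `2` (either of them) form a
  strong pair, given the strong rows of the smaller simple groups (section of the Levi subgroup of the nodes `1`, `2`);
* `srow_E6`, `srow_twE6_own` : the strong row.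
-/

set_option autoImplicit false
set_option linter.unusedSectionVars false
set_option maxHeartbeats 400000

universe u

namespace Cfsg.Agent.H951.S5.TwE

open CoxeterSystem Cfsg.Agent.ChevalleyStructure.CoxeterGeom Cfsg.Agent.Tits.Roots Cfsg.Agent.Tits.Core
  Cfsg.Agent.Tits.RootComb Cfsg.Agent.Nodes.Comb Cfsg.Agent.Nodes.Reps Cfsg.Agent.Nodes.BNOf
  Cfsg.Agent.Nodes.RGDTwE6 Cfsg.Agent.Nodes.RGDLib Cfsg.Agent.Nodes.SubComb Cfsg.Agent.Nodes.Sub
  Cfsg.Agent.Nodes.Bruhat Cfsg.Agent.Nodes.StabComb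
open Cfsg.Lie Cfsg.Agent.ChevalleyStructure Cfsg.Agent.GenExc Cfsg.Agent.GenExc.TwE
open Cfsg.Agent.UGT.U2.FOne.TwESix
open Cfsg.Agent.H798.T5Geo Cfsg.Agent.H533.T5 Cfsg.Agent.H862.T5.LevPair Cfsg.Agent.H862.T5.E6Pair
open Cfsg.Agent.H132.S5

section Levi

variable {K : Type} [Field K] [Fintype K] {q : ℕ} {φ : K →+* K} (hφ : ∀ x, φ x = x ^ q)
  (hK : Fintype.card K = q ^ 2) {W : Type*} [Group W] (cs : CoxeterSystem CoxeterMatrix.F₄ W)

include hφ hK in
/-- **Pairs of elements acting on panels of the middle types**, `p ≥ 5`. -/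
theorem spair_of_NT {p : ℕ} [Fact p.Prime] [CharP K p] (hp5 : 5 ≤ p)
    (hlt : SBelow.{u} p (Nat.card ↥(twistedE6 K q)))
    {c d : ↥(twistedE6 K q)} (hcp : orderOf c = p) (hdp : orderOf d = p) {i j : Fin 2}
    (hc : NT cs isCartan (X φ q) c (f2 i)) (hd : NT cs isCartan (X φ q) d (f2 j)) :
    SPair p (⊤ : Subgroup ↥(twistedE6 K q)) c d := by
  have hqq := frob_two hK
  have hW : Finite W := Cfsg.Agent.KFacts.TwESix.Comb.finiteW cs
  have hq3 : 3 ≤ q := by
    have := le_q hK hp5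
    omega
  have R := rgd cs hφ hqq p
  refine spair_of_levi f2 R (nn_mem_HL hφ hqq cs f2) sub2.conn' (fun a ha b hb => comm_T ha hb)
    (perf hφ hqq sub2 cs hq3 hK perf2) ?_ hcp hdp hc hd
  have hqs := sub2.isQuasisimple hφ hqq cs p hq3 hK perf2
  have hcard := card_lt f2 R (k := 0) (by decide)
  set S := ↥(HL cs isCartan (X φ q) f2) ⧸ Subgroup.center ↥(HL cs isCartan (X φ q) f2) with hS
  have hs : IsSimpleGroup S := hqs.2
  have hna : ¬ IsMulCommutative S := by
    intro hcomm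
    have h2 : commutator S = ⊥ := by
      rw [commutator_def, Subgroup.commutator_eq_bot_iff_le_centralizer]
      intro x _
      rw [Subgroup.mem_centralizer_iff]
      intro y _
      exact hcomm.is_comm.comm y x
    have h3 : commutator S = ⊤ := by
      have h4 : commutator ↥(HL cs isCartan (X φ q) f2) = ⊤ := hqs.1.commutator_eq_top
      have h5 := congrArg (Subgroup.map (QuotientGroup.mk' (Subgroup.center ↥(HL cs isCartan (X φ q) f2)))) h4
      rw [map_commutator_eq, MonoidHom.range_eq_top.2 (QuotientGroup.mk'_surjective _),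
        Subgroup.map_top_of_surjective _ (QuotientGroup.mk'_surjective _)] at h5
      exact h5
    rw [h2] at h3
    exact bot_ne_top h3
  have e : ULift.{u} S ≃* S := MulEquiv.ulift
  have hsu : IsSimpleGroup (ULift.{u} S) := e.isSimpleGroup
  refine Cfsg.Agent.H897.T5Sub.SRow.congr e (hlt (ULift.{u} S) hsu ?_ ?_)
  · intro h1
    apply hna
    exact ⟨⟨fun a b => by
      have := h1.is_comm.comm (e.symm a) (e.symm b)
      rw [← map_mul, ← map_mul] at this
      exact e.symm.injective this⟩⟩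
  · rw [Nat.card_congr e.toEquiv]
    exact hcard

end Levi

open Cfsg.Agent.H460.Typed
open Cfsg.Agent.H798.T5Pan Cfsg.Agent.H798.T5Tp Cfsg.Agent.H798.T5Asm Cfsg.Agent.H798.T5Tw
open Cfsg.Agent.H798.T5Untw (comm_of_not)
open Cfsg.Agent.H951.S5.TPan Cfsg.Agent.H951.S5.Asm
open Cfsg.Agent.KFacts.TwESix.Out (KF)

variable {K : Type} [Field K] [Fintype K] (p : ℕ) [Fact p.Prime] [CharP K p] {q : ℕ} {φ : K →+* K}
  (hφ : ∀ x, φ x = x ^ q) (hqq : ∀ t : K, (t ^ q) ^ q = t)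

include hφ hqq in
/-- **`SRow` of `²E₆(q)`.** -/
theorem srow_E6 (h5 : 5 ≤ p) (hq : IsPrimePow q) (hK : Fintype.card K = q ^ 2) [IsSimpleGroup ↥(twistedE6 K q)]
    (hna : ¬ IsMulCommutative ↥(twistedE6 K q)) (hrow : ∀ Q, RowTwo p Q)
    (hlt : SBelow.{u} p (Nat.card ↥(twistedE6 K q))) : SRow p ↥(twistedE6 K q) := by
  have hp : p.Prime := Fact.out
  have hW := finW_E6
  have R := Cfsg.Agent.Nodes.RGDTwE6.rgd (CoxeterMatrix.toCoxeterSystem CoxeterMatrix.F₄) hφ hqq p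
  have hG1 := G1_eq_top (CoxeterMatrix.toCoxeterSystem CoxeterMatrix.F₄) hφ hqq
  obtain ⟨E, hB, he, hF⟩ := exists_eng_of (Q := fun i => Nat.card (KF φ i)) R (gen_E6 p hφ hqq)
    (Cfsg.Agent.FixBN.TwGood.isSolvable_T Nodes.RGDTwE6.hp) (fun i => fnode_E6 p hφ hqq i) (by norm_num)
  refine srow_of R hB he (comm_of_not hna) (KFacts.RgdFilt.GG_eq_top (T := T K q) hG1) (fun i => hrow _) hF ?_
    (fun c hc => hout_E6 p hφ hqq hB he (by omega) hq hK hc)
  intro x y hx hy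
  have px : ∀ {x : ↥(twistedE6 K q)}, orderOf x = p → x ^ p = 1 := fun h => by rw [← h, pow_orderOf_eq_one]
  have nx : ∀ {x : ↥(twistedE6 K q)}, orderOf x = p → x ≠ 1 := by
    rintro x h rfl
    rw [orderOf_one] at h
    exact hp.one_lt.ne h
  rcases cases_E6 p hφ hqq (px hx) (px hy) (nx hx) (nx hy) with h1 | ⟨h1, h2, h3, h4⟩ | ⟨h1, h2, h3, h4⟩
  · exact Or.inl h1
  · exact Or.inr (spair_of_NT hφ hK (CoxeterMatrix.toCoxeterSystem CoxeterMatrix.F₄) h5 hlt hx hy (i := 0) (j := 1) h1 h3)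
  · exact Or.inr (spair_of_NT hφ hK (CoxeterMatrix.toCoxeterSystem CoxeterMatrix.F₄) h5 hlt hx hy (i := 1) (j := 0) h3 h1)

/-- **The strong row of `²E₆(q)`, `p ≥ 5` dividing `q`.** -/
theorem srow_twE6_own (hp : p.Prime) (h5 : 5 ≤ p) (B : SBox.{u} p) (hq : IsPrimePow q)
    (hK : Fintype.card K = q ^ 2) {S : Type u} [Group S] (e : S ≃* ↥(twistedE6 K q))
    (hlt : SBelow.{u} p (Nat.card S)) : SRow p S := by
  obtain ⟨hs, hna⟩ := Cfsg.Agent.S1070.result hq hK
  obtain ⟨φ, hφ, hqq⟩ := TwE6Basic.exists_frob hq hK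
  rw [Nat.card_congr e.toEquiv] at hlt
  exact Cfsg.Agent.H897.T5Sub.SRow.congr e.symm
    (srow_E6 p hφ hqq h5 hq hK hna (fun Q => rowTwo_of hp h5 B Q) hlt)

end Cfsg.Agent.H951.S5.TwE
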