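import Cfsg.Agent.H798.T5GFour

/-!
# Special pairs of rank two groups (S2274): no normal `p`-subgroups

`core_false` : `c ∈ U`, `c ∉ V_i`, `c` acts trivially on all `j`-panels of fixed chambers, `d` fixes exactly the chambers
of one `i`-panel. Then `⟨c, d ^ g⟩`, `g = (n_j n_i)⁻¹`, normalises no `p`-subgroup `≠ 1` (Borel-Tits).
-/

set_option autoImplicit false
set_option linter.unusedSectionVars false

namespace Cfsg.Agent.H951.S5.CoreFalse

open CoxeterSystem Cfsg.Agent.ChevalleyStructure.CoxeterGeom Cfsg.Agent.Tits.Roots Cfsg.Agent.Tits.Core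
  Cfsg.Agent.Tits.RootComb Cfsg.Agent.Tits.Exchange Cfsg.Agent.Nodes.Reps Cfsg.Agent.Nodes.BNOf
  Cfsg.Agent.Nodes.StabComb Cfsg.Agent.Nodes.Bruhat Cfsg.Agent.Nodes.OppDec Cfsg.Agent.Nodes.LeviDec
  Cfsg.Agent.KFacts.RgdBorelTits
  Cfsg.Agent.H533.T5 Cfsg.Agent.H798.T5Geo Cfsg.Agent.H798.T5Root Cfsg.Agent.H798.T5Bond

variable {I W Y : Type*} [Fintype I] [DecidableEq I] [Group W] [Group Y] {M : CoxeterMatrix I}
  {cs : CoxeterSystem M W} {A : I → I → ℤ} {h : IsCartan M A} {p : ℕ} {T : Subgroup Y} {n : I → Y}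
  {X : (I → ℤ) → Subgroup Y}

theorem LJ_mono {J J' : Set I} (hJ : J ⊆ J') : LJ cs h T X J ≤ LJ cs h T X J' :=
  sup_le_sup le_rfl (RGD.Sup_mono fun _ hx => ⟨hx.1, fun k hk => hx.2 k fun h1 => hk (hJ h1)⟩)

theorem PJ_mono {J J' : Set I} (hJ : J ⊆ J') : PJ cs h T X J ≤ PJ cs h T X J' :=
  sup_le ((LJ_mono hJ).trans LJ_le_PJ) ((VJ_le_B J).trans B_le_PJ)

theorem isPGroup_zpowers_conj {x : Y} (hx : IsPGroup p (Subgroup.zpowers x)) (k : Y) :
    IsPGroup p (Subgroup.zpowers (k * x * k⁻¹)) := by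
  have h2 : Subgroup.zpowers (k * x * k⁻¹) = (Subgroup.zpowers x).map (MulAut.conj k).toMonoidHom := by
    rw [MonoidHom.map_zpowers]; rfl
  rw [h2]
  exact hx.map _

theorem core_false [Finite W] [Finite Y] [Fact p.Prime] (R : RGD cs h p T n X) {F : (I → ℤ) → ℝ → Subgroup Y}
    (hF : Filt R F) (hG : GG cs h T X = ⊤) {i j : I} (hij : i ≠ j) (hM : M i j ≠ 2) (hall : ∀ k, k = i ∨ k = j)
    {c d : Y} (hc : c ∈ RGD.Sup X (RGD.Pos cs h)) (hc' : c ∉ VJ cs h X {i}) (hcj : ¬ NT cs h X c j)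
    (hd : ∀ g ∈ PJ cs h T X {i}, g * d * g⁻¹ ∈ RGD.Sup X (RGD.Pos cs h) ∧ g * d * g⁻¹ ∉ VJ cs h X {j})
    {N : Subgroup Y} (hN : IsPGroup p N) (hN1 : N ≠ ⊥) (hcN : c ∈ Subgroup.normalizer (N : Set Y))
    (hdN : (n j * n i)⁻¹ * d * (n j * n i)⁻¹⁻¹ ∈ Subgroup.normalizer (N : Set Y)) : False := by
  obtain ⟨x, J, hJ, -, hNJ⟩ := borel_tits hF hG hN hN1
  obtain ⟨g0, hg0⟩ : ∃ g0, g0 = (n j * n i)⁻¹ := ⟨_, rfl⟩
  rw [← hg0] at hdN
  have hc1 : x⁻¹ * c * x ∈ PJ cs h T X J := mem_cj.1 (hNJ hcN)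
  have hd1 : x⁻¹ * (g0 * d * g0⁻¹) * x ∈ PJ cs h T X J := mem_cj.1 (hNJ hdN)
  have hdU : d ∈ RGD.Sup X (RGD.Pos cs h) := by
    have := (hd 1 (one_mem _)).1
    rwa [one_mul, inv_one, mul_one] at this
  have pc : IsPGroup p (Subgroup.zpowers c) := R.isPGroup_Upos.to_le (by rw [Subgroup.zpowers_le]; exact hc)
  have pd : IsPGroup p (Subgroup.zpowers d) := R.isPGroup_Upos.to_le (by rw [Subgroup.zpowers_le]; exact hdU)
  have hJuniv : ({i, j} : Set I) = Set.univ := by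
    ext k
    simp only [Set.mem_insert_iff, Set.mem_singleton_iff, Set.mem_univ, iff_true]
    exact hall k
  have htop : ∀ y : Y, y ∈ PJ cs h T X {i, j} := by
    intro y
    rw [hJuniv]
    refine LJ_le_PJ ?_
    rw [LJ_univ, hG]
    exact Subgroup.mem_top y
  -- the goal
  have main : g0⁻¹ * c * g0 ∈ PJ cs h T X {i} → False := by
    intro h1
    refine hc' (mem_V_of_core R hij hM hc ?_)
    have e : n j * n i * c * (n j * n i)⁻¹ = g0⁻¹ * c * g0 := by rw [hg0]; group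
    rwa [e]
  by_cases hjJ : j ∈ J
  · -- `J ⊆ {j}`
    have hiJ : i ∉ J := by
      intro hiJ
      apply hJ
      ext k
      simp only [Set.mem_univ, iff_true]
      rcases hall k with rfl | rfl
      · exact hiJ
      · exact hjJ
    have hJj : J ⊆ {j} := by
      intro k hk
      rcases hall k with rfl | rfl
      · exact absurd hk hiJ
      · rfl
    have hc2 := PJ_mono (cs := cs) (h := h) (T := T) (X := X) hJj hc1
    have hd2 := PJ_mono (cs := cs) (h := h) (T := T) (X := X) hJj hd1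
    obtain ⟨r, hr, hrK⟩ := exists_conj_U_P R (J := {j}) (K := Subgroup.zpowers (x⁻¹ * g0 * d * (x⁻¹ * g0)⁻¹))
      (isPGroup_zpowers_conj pd _) (by
        rw [Subgroup.zpowers_le]
        have e : x⁻¹ * g0 * d * (x⁻¹ * g0)⁻¹ = x⁻¹ * (g0 * d * g0⁻¹) * x := by group
        rwa [e])
    have h1 := hrK _ (Subgroup.mem_zpowers _)
    obtain ⟨y, hy⟩ : ∃ y, y = r * x⁻¹ * g0 := ⟨_, rfl⟩
    have h2 : y * d * y⁻¹ ∈ RGD.B cs h T X := by
      have e : y * d * y⁻¹ = r * (x⁻¹ * g0 * d * (x⁻¹ * g0)⁻¹) * r⁻¹ := by rw [hy]; group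
      rw [e]
      exact RGD.U_le_B h1
    have hyP := mem_P_of_only R hd (htop y) h2
    -- `y g0⁻¹ c g0 y⁻¹ ∈ P_j`
    obtain ⟨c', hc'e⟩ : ∃ c', c' = y * (g0⁻¹ * c * g0) * y⁻¹ := ⟨_, rfl⟩
    have h3 : c' ∈ PJ cs h T X {j} := by
      have e : c' = r * (x⁻¹ * c * x) * r⁻¹ := by rw [hc'e, hy]; group
      rw [e]
      exact mul_mem (mul_mem hr hc2) (inv_mem hr)
    have pc' : IsPGroup p (Subgroup.zpowers c') := by
      have e : c' = (y * g0⁻¹) * c * (y * g0⁻¹)⁻¹ := by rw [hc'e]; group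
      rw [e]
      exact isPGroup_zpowers_conj pc _
    obtain ⟨s, hs, hsK⟩ := exists_conj_U_P R (J := {j}) pc' (by rw [Subgroup.zpowers_le]; exact h3)
    have h4 := hsK _ (Subgroup.mem_zpowers _)
    have h5 : s * c' * s⁻¹ ∈ VJ cs h X {j} := by
      have e : s * c' * s⁻¹ = (s * y * g0⁻¹) * c * (s * y * g0⁻¹)⁻¹ := by rw [hc'e]; group
      rw [e] at h4 ⊢
      exact mem_V_of_not_NT hcj _ h4
    have h6 := (P_conj_V R hs).1 h5
    have h7 : c' ∈ PJ cs h T X {i} := B_le_PJ (VJ_le_B _ h6)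
    apply main
    have e : g0⁻¹ * c * g0 = y⁻¹ * c' * y := by rw [hc'e]; group
    rw [e]
    exact mul_mem (mul_mem (inv_mem hyP) h7) hyP
  · -- `J ⊆ {i}`
    have hJi : J ⊆ {i} := by
      intro k hk
      rcases hall k with rfl | rfl
      · rfl
      · exact absurd hk hjJ
    have hc2 := PJ_mono (cs := cs) (h := h) (T := T) (X := X) hJi hc1
    have hd2 := PJ_mono (cs := cs) (h := h) (T := T) (X := X) hJi hd1
    obtain ⟨r, hr, hrK⟩ := exists_conj_U_P R (J := {i}) (K := Subgroup.zpowers (x⁻¹ * g0 * d * (x⁻¹ * g0)⁻¹))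
      (isPGroup_zpowers_conj pd _) (by
        rw [Subgroup.zpowers_le]
        have e : x⁻¹ * g0 * d * (x⁻¹ * g0)⁻¹ = x⁻¹ * (g0 * d * g0⁻¹) * x := by group
        rwa [e])
    have h1 := hrK _ (Subgroup.mem_zpowers _)
    obtain ⟨y, hy⟩ : ∃ y, y = r * x⁻¹ * g0 := ⟨_, rfl⟩
    have h2 : y * d * y⁻¹ ∈ RGD.B cs h T X := by
      have e : y * d * y⁻¹ = r * (x⁻¹ * g0 * d * (x⁻¹ * g0)⁻¹) * r⁻¹ := by rw [hy]; group
      rw [e]
      exact RGD.U_le_B h1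
    have hyP := mem_P_of_only R hd (htop y) h2
    apply main
    have e : g0⁻¹ * c * g0 = (r⁻¹ * y)⁻¹ * (x⁻¹ * c * x) * (r⁻¹ * y) := by rw [hy]; group
    rw [e]
    have h3 := mul_mem (inv_mem hr) hyP
    exact mul_mem (mul_mem (inv_mem h3) hc2) h3

end Cfsg.Agent.H951.S5.CoreFalse
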