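import Cfsg.Agent.ChevalleyStructure.OrthD4Tab
import Cfsg.Agent.H106.MTwD4

/-!
# `D₄(K)` on the natural module (S2274, `³D₄(q)`)

* `Rl g A` : `g ∈ Ω₈⁺(K)` and `A` in the Chevalley group `D₄(K) ≤ GL₂₈(K)` correspond to each other;
* `exists_cubic` : the elements of the unipotent radical of the parabolic subgroup of the long node lift to elements `g`
  with `(g - 1) ^ 3 = 0`;
* `scalar_of_rel_one` : `Rl g 1` only for `g = ± 1`.
-/

set_option autoImplicit false
set_option linter.unusedSectionVars false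

namespace Cfsg.Agent.H951.S5.D4Nat

open Matrix Cfsg.Lie Cfsg.Agent.ChevalleyStructure Cfsg.Agent.ChevalleyStructure.OrthHyp
  Cfsg.Agent.ChevalleyStructure.OrthLie Cfsg.Agent.ChevalleyStructure.OrthLie.Tab
  Cfsg.Agent.ChevalleyStructure.TwistedU
open Cfsg.Agent.ChevalleyStructure.OrthD4Def (tab)
open Cfsg.Agent.ChevalleyStructure.OrthD4Tab (ok span compat)
open Cfsg.Agent.ChevalleyStructure.D4Comm (xG coe_xG)
open Cfsg.Agent.ChevalleyStructure.D4U (RS)
open Cfsg.Agent.H106.MTwD4 (l1)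

variable {F : Type*} [Field F]

/-- the index set -/
abbrev Ix := Fin 4 ⊕ Fin 4

/-! ### the flag -/

/-- the levels of the flag -/
def lev : Ix → ℕ
  | .inl i => if i.val < 2 then 0 else 1
  | .inr i => if i.val < 2 then 2 else 1

theorem lev_le : ∀ k : Ix, lev k ≤ 2 := by decide +kernel

/-- acting trivially on the factors of the flag -/
def Lv (M : Matrix Ix Ix F) : Prop := ∀ k l, lev l ≤ lev k → M k l = if k = l then 1 else 0

theorem Lv.one : Lv (1 : Matrix Ix Ix F) := fun _ _ _ => Matrix.one_apply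

theorem Lv.mul {M N : Matrix Ix Ix F} (hM : Lv M) (hN : Lv N) : Lv (M * N) := by
  intro i j hij
  rw [Matrix.mul_apply]
  have key : ∀ k, M i k * N k j = if k = i then (if i = j then 1 else 0) else 0 := by
    intro k
    by_cases hk : k = i
    · subst hk
      rw [if_pos rfl, hM k k le_rfl, if_pos rfl, one_mul, hN k j hij]
    · rw [if_neg hk]
      by_cases h1 : lev k ≤ lev i
      · rw [hM i k h1, if_neg (Ne.symm hk), zero_mul]
      · rw [hN k j (by omega), if_neg, mul_zero]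
        rintro rfl
        exact h1 hij
  rw [Finset.sum_congr rfl (fun k _ => key k), Finset.sum_ite_eq' Finset.univ i, if_pos (Finset.mem_univ _)]

theorem Lv.pow {M : Matrix Ix Ix F} (hM : Lv M) (n : ℕ) : Lv (M ^ n) := by
  induction n with
  | zero => rw [pow_zero]; exact Lv.one
  | succ n ih => rw [pow_succ]; exact ih.mul hM

/-- **Elements of the flag group are cubic.** -/
theorem Lv.cube {M : Matrix Ix Ix F} (hM : Lv M) : (M - 1) ^ 3 = 0 := by
  have h0 : ∀ k l, lev l ≤ lev k → (M - 1) k l = 0 := by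
    intro k l hkl
    rw [Matrix.sub_apply, hM k l hkl, Matrix.one_apply, sub_self]
  rw [pow_succ, pow_two]
  ext k l
  rw [Matrix.mul_apply]
  refine Finset.sum_eq_zero fun b _ => ?_
  by_cases hb : lev l ≤ lev b
  · rw [h0 b l hb, mul_zero]
  · rw [Matrix.mul_apply, Finset.sum_eq_zero, zero_mul]
    intro a _
    by_cases ha : lev b ≤ lev a
    · rw [h0 a b ha, mul_zero]
    · rw [h0 k a, zero_mul]
      have := lev_le l
      omega

/-! ### related elements -/

/-- the relation -/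
def Rl (g : GL Ix F) (A : GL chevD4.Idx F) : Prop :=
  g ∈ (plusForm 4 F).E ∧ tab.Rel (plusForm 4 F) g (A : Matrix chevD4.Idx chevD4.Idx F)

theorem Rl.one : Rl (1 : GL Ix F) 1 := ⟨one_mem _, Rel.one⟩

theorem Rl.mul {g h : GL Ix F} {A B : GL chevD4.Idx F} (hg : Rl g A) (hh : Rl h B) : Rl (g * h) (A * B) :=
  ⟨mul_mem hg.1 hh.1, by rw [Units.val_mul]; exact hg.2.mul hh.2⟩

theorem Rl.inv {g : GL Ix F} {A : GL chevD4.Idx F} (hg : Rl g A) : Rl g⁻¹ A⁻¹ := by
  obtain ⟨hgE, hgO, l, hl⟩ := hg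
  refine ⟨inv_mem hgE, inv_mem hgO, - (((A⁻¹ : GL chevD4.Idx F) : Matrix chevD4.Idx chevD4.Idx F) *ᵥ l),
    fun u v => ?_⟩
  have h1 := hl (((g⁻¹ : GL Ix F) : Matrix Ix Ix F) *ᵥ u) (((g⁻¹ : GL Ix F) : Matrix Ix Ix F) *ᵥ v)
  rw [act_act_inv, act_act_inv, (plusForm 4 F).B_act (inv_mem hgO)] at h1
  rw [h1, Matrix.mulVec_add, Matrix.mulVec_mulVec, ← Units.val_mul, inv_mul_cancel, Units.val_one,
    Matrix.one_mulVec, Matrix.mulVec_smul, smul_neg, add_neg_cancel_right]

theorem Rl.eq {g : GL Ix F} {A B : GL chevD4.Idx F} (hA : Rl g A) (hB : Rl g B) : A = B :=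
  Units.ext (hA.2.unique (compat F) span hB.2)

theorem exists_rl {A : GL chevD4.Idx F} (hA : A ∈ chevD4.group F) : ∃ g : GL Ix F, Rl g A := by
  obtain ⟨g, h1, h2⟩ := exists_of_mem_group (compat F) ok hA
  exact ⟨g, h1, h2⟩

/-- **The kernel.** -/
theorem scalar_of_rel_one {g : GL Ix F} (hg : Rl g 1) :
    ∃ c : F, c ^ 2 = 1 ∧ ∀ v : Ix → F, (g : Matrix Ix Ix F) *ᵥ v = c • v := by
  refine (plusForm 4 F).scalar_of_commute (k := Sum.inl 0) (l := Sum.inl 1) (Set.mem_univ _) (Set.mem_univ _)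
    (by decide) (show (Sum.inl 1 : Ix) ≠ Sum.inr 0 from Sum.inl_ne_inr) ((plusForm 4 F).E_le_O hg.1) fun e he => ?_
  exact commute_of_rel_one (compat F) OrthD4Tab.min OrthD4Tab.third hg.2 he

/-! ### the root elements of the radical -/

/-- the check: the column `p` of the root element `r` -/
def ckB (r : ℕ) (p : Ix) : Bool := match tab.tv r p with
  | [] => false
  | x :: rest => decide (x = (p, 1, 0)) && rest.all fun y => decide (lev y.1 < lev p)

theorem ck : ∀ r ∈ l1, ∀ p : Ix, ckB r p = true := by decide +kernel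

theorem pvec_apply_zero {l : List (Ix × ℤ × ℕ)} {t : F} {k : Ix} (h : ∀ x ∈ l, x.1 ≠ k) : pvec l t k = 0 := by
  unfold pvec
  induction l with
  | nil => simp
  | cons x l ih =>
    rw [List.map_cons, List.sum_cons, Pi.add_apply, ih fun y hy => h y (List.mem_cons_of_mem _ hy), add_zero,
      Pi.smul_apply, Pi.single_eq_of_ne (Ne.symm (h x (List.mem_cons_self))), smul_zero]

theorem lv_rootV {r : Fin chevD4.nroots} (hr : r.val ∈ l1) (t : F) :
    Lv (rootV (compat F) r t : Matrix Ix Ix F) := by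
  intro k p hkp
  have h1 : (rootV (compat F) r t : Matrix Ix Ix F) k p =
      ((rootV (compat F) r t : Matrix Ix Ix F) *ᵥ Pi.single p 1) k := by
    rw [Matrix.mulVec_single_one]
    rfl
  rw [h1, rootV, (plusForm 4 F).sieg_act, sgl_single (compat F)]
  have h2 := ck r.val hr p
  unfold ckB at h2
  generalize tab.tv r.val p = L at h2 ⊢
  rcases L with _ | ⟨x, rest⟩
  · exact absurd h2 (by simp)
  · simp only [Bool.and_eq_true, decide_eq_true_eq, List.all_eq_true] at h2
    obtain ⟨rfl, h3⟩ := h2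
    have h4 : pvec ((p, 1, 0) :: rest) t k = (Pi.single p 1 : Ix → F) k + pvec rest t k := by
      unfold pvec
      rw [List.map_cons, List.sum_cons, Pi.add_apply]
      simp
    rw [h4, pvec_apply_zero (fun y hy h => by
      have := h3 y hy
      rw [h] at this
      omega), add_zero, Pi.single_apply]

/-- the elements with a lift in the flag group -/
def FG (F : Type*) [Field F] [Finite F] : Subgroup (GL chevD4.Idx F) where
  carrier := {A | ∃ g : GL Ix F, Rl g A ∧ Lv (g : Matrix Ix Ix F)}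
  one_mem' := ⟨1, Rl.one, Lv.one⟩
  mul_mem' := by
    rintro A B ⟨g, hg, hg'⟩ ⟨h, hh, hh'⟩
    exact ⟨g * h, hg.mul hh, by rw [Units.val_mul]; exact hg'.mul hh'⟩
  inv_mem' := by
    rintro A ⟨g, hg, hg'⟩
    refine ⟨g⁻¹, hg.inv, ?_⟩
    have h1 : g⁻¹ = g ^ (orderOf g - 1) := by
      rw [inv_eq_iff_mul_eq_one, ← pow_succ', Nat.sub_add_cancel (orderOf_pos g), pow_orderOf_eq_one]
    rw [h1, Units.val_pow_eq_pow_val]
    exact hg'.pow _

theorem RS_le_FG [Finite F] : RS F l1 ≤ FG F := by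
  refine rspan_le xG fun r hr t => ?_
  have hr24 : r < chevD4.nroots := by
    have : ∀ r ∈ l1, r < chevD4.nroots := by decide +kernel
    exact this r hr
  refine ⟨rootV (compat F) ⟨r, hr24⟩ t, ⟨rootV_mem_E (compat F) _ t, ?_⟩, lv_rootV (r := ⟨r, hr24⟩) hr t⟩
  have h1 : chevD4.x F r t = chevD4.xMat F ⟨r, hr24⟩ t := dif_pos hr24
  rw [coe_xG, h1]
  exact rel_rootV (compat F) ok _ t

/-- **The lifts of the radical are cubic.** -/
theorem exists_cubic [Finite F] {A : GL chevD4.Idx F} (hA : A ∈ RS F l1) :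
    ∃ g : GL Ix F, Rl g A ∧ ((g : Matrix Ix Ix F) - 1) ^ 3 = 0 := by
  obtain ⟨g, h1, h2⟩ := RS_le_FG hA
  exact ⟨g, h1, h2.cube⟩

end Cfsg.Agent.H951.S5.D4Nat
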