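import Cfsg.Agent.S0633
import Cfsg.Agent.Lib.HallHigman
import Cfsg.Agent.Lib.PSolvable

/-!
# Hall-Higman: cubic elements of order `p ≥ 5` (S2274)

`hh_false` : a solvable group without normal `p`-subgroups has no faithful representation in which an element of order
`p ≥ 5` satisfies `(x - 1) ^ 3 = 0`.
-/

set_option autoImplicit false
set_option linter.unusedSectionVars false

namespace Cfsg.Agent.H951.S5.HH

open Cfsg

theorem hh_false {F : Type*} [Field F] {p : ℕ} [hp : Fact p.Prime] [CharP F p] (h5 : 5 ≤ p) {V : Type*}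
    [AddCommGroup V] [Module F V] [FiniteDimensional F V] {E : Type*} [Group E] [Finite E]
    (hsol : Group.IsSolvable E) (hN : ∀ N : Subgroup E, N.Normal → IsPGroup p N → N = ⊥)
    (ρ : E →* (V ≃ₗ[F] V)) (hρ : Function.Injective ρ) {x : E} (hx : orderOf x = p)
    (hr : ((ρ x : Module.End F V) - 1) ^ 3 = 0) : False := by
  let e : E ≃* ρ.range := MonoidHom.ofInjective hρ
  have hfin : Finite ρ.range := Finite.of_equiv _ e.toEquiv
  have hsol' : Group.IsSolvable ρ.range := Group.isSolvable_of_surjective (f := e.toMonoidHom) e.surjective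
  have hcore : Cfsg.pCore p ρ.range = ⊥ := by
    have h1 : (Cfsg.pCore p ρ.range).Normal := Cfsg.Agent.Lib.HallHigman.pCore_normal p
    have h2 : IsPGroup p (Cfsg.pCore p ρ.range) := Cfsg.Agent.Lib.HallHigman.pCore_isPGroup p
    have h3 : (Cfsg.pCore p ρ.range).comap e.toMonoidHom = ⊥ :=
      hN _ (h1.comap _) (h2.comap_of_injective _ e.injective)
    rw [eq_bot_iff]
    intro y hy
    obtain ⟨z, rfl⟩ := e.surjective y
    have h4 : z ∈ (Cfsg.pCore p ρ.range).comap e.toMonoidHom := hy
    rw [h3, Subgroup.mem_bot] at h4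
    rw [h4, map_one]
    exact one_mem _
  have ho : orderOf (ρ x) = p ^ 1 := by rw [orderOf_injective ρ hρ, hx, pow_one]
  have := Cfsg.Agent.S0633.bound ρ.range (Cfsg.Agent.Lib.PSolvable.IsPSolvable_of_solvable p) hcore (ρ x) ⟨x, rfl⟩ 1
    le_rfl ho 3 hr
  rcases this with h | ⟨n₀, q, m, h1, h2, -, -, -, -, h3⟩
  · rw [pow_one] at h
    omega
  · have h4 : n₀ = 1 := by omega
    rw [h4, Nat.sub_self, pow_zero, pow_one, one_mul] at h3
    omega

end Cfsg.Agent.H951.S5.HH
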