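import Cfsg.Agent.H951.S5.CoreFalse
import Cfsg.Agent.H951.S5.HH
import Cfsg.Agent.H951.S5.D4Nat
import Cfsg.Agent.H798.T5Tw
import Cfsg.Agent.H132.S5.Pairs

/-!
# The special pairs of `³D₄(q)` in its own characteristic (S2274, O6)

`apair_only` : `c` of type `{0}` only, `d` fixing exactly the chambers of one `0`-panel: the group generated by `c` and a
conjugate of `d` is not solvable (Borel-Tits, Hall-Higman: `c` is cubic on the natural module).
-/

set_option autoImplicit false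
set_option linter.unusedSectionVars false
set_option maxHeartbeats 400000

namespace Cfsg.Agent.H951.S5.D4Pair

open CoxeterSystem Cfsg.Agent.ChevalleyStructure.CoxeterGeom Cfsg.Agent.Tits.Roots Cfsg.Agent.Tits.Core
  Cfsg.Agent.Nodes.BNOf Cfsg.Agent.Nodes.RGDTwGen Cfsg.Agent.Nodes.RGDChev Cfsg.Agent.Nodes.RGDFold
open Cfsg.Agent.Nodes.Reps Cfsg.Agent.Nodes.StabComb Cfsg.Agent.Nodes.LeviDec
open Cfsg.Lie Cfsg.Agent.ChevalleyStructure Cfsg.Agent.ChevalleyStructure.OrthHyp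
open Cfsg.Agent.Nodes.RGDTwD4 (isCartan X T n)
open Cfsg.Agent.H132.S5 Cfsg.Agent.H951.S5.D4Nat Cfsg.Agent.H951.S5.CoreFalse

variable {K : Type} [Field K] [Fintype K] {q : ℕ} {φ : K →+* K}

theorem tw_le (hφ : ∀ x, φ x = x ^ q) : twistedD4 K q ≤ chevD4.group K := by
  have hx : ∀ r (t : K), D4Cols.xU r t ∈ chevD4.group K := fun r t => by
    rw [D4U.xU_eq]
    exact Elts.xG_mem_group Nodes.RGDTwD4.hp.inList r t
  exact D4Fixed.twisted_induction hφ (fun t _ => hx _ _) (fun t _ => hx _ _)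
    (fun t => mul_mem (mul_mem (hx _ _) (hx _ _)) (hx _ _)) (fun t => mul_mem (mul_mem (hx _ _) (hx _ _)) (hx _ _))

/-- the pairs (lift, element) over a subgroup -/
def PG (H : Subgroup ↥(twistedD4 K q)) : Subgroup (GL Ix K × ↥(twistedD4 K q)) where
  carrier := {x | Rl x.1 (x.2 : GL chevD4.Idx K) ∧ x.2 ∈ H}
  one_mem' := ⟨Rl.one, one_mem _⟩
  mul_mem' := by
    rintro ⟨a, b⟩ ⟨c, d⟩ ⟨h1, h2⟩ ⟨h3, h4⟩
    exact ⟨h1.mul h3, mul_mem h2 h4⟩
  inv_mem' := by
    rintro ⟨a, b⟩ ⟨h1, h2⟩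
    exact ⟨h1.inv, inv_mem h2⟩

/-- the projection to the natural module -/
def p1 (H : Subgroup ↥(twistedD4 K q)) : ↥(PG H) →* GL Ix K :=
  (MonoidHom.fst (GL Ix K) ↥(twistedD4 K q)).comp (PG H).subtype

/-- the projection to the group -/
def p2 (H : Subgroup ↥(twistedD4 K q)) : ↥(PG H) →* ↥(twistedD4 K q) :=
  (MonoidHom.snd (GL Ix K) ↥(twistedD4 K q)).comp (PG H).subtype

theorem p1_injective (H : Subgroup ↥(twistedD4 K q)) : Function.Injective (p1 H) := by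
  rw [injective_iff_map_eq_one]
  rintro ⟨⟨a, b⟩, h1, h2⟩ h3
  have h4 : a = 1 := h3
  subst h4
  have h5 : b = 1 := Subtype.ext (Rl.eq h1 Rl.one)
  subst h5
  rfl

theorem p2_mem {H : Subgroup ↥(twistedD4 K q)} (x : ↥(PG H)) : p2 H x ∈ H := x.2.2

theorem exists_p2 (hφ : ∀ x, φ x = x ^ q) {H : Subgroup ↥(twistedD4 K q)} {y : ↥(twistedD4 K q)} (hy : y ∈ H) :
    ∃ x : ↥(PG H), p2 H x = y := by
  obtain ⟨g, hg⟩ := exists_rl (tw_le hφ y.2)
  exact ⟨⟨(g, y), hg, hy⟩, rfl⟩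

/-- the kernel of `p2` -/
theorem scalar_of_p2 {H : Subgroup ↥(twistedD4 K q)} {x : ↥(PG H)} (hx : p2 H x = 1) :
    ∃ c : K, c ^ 2 = 1 ∧ ∀ v : Ix → K, ((p1 H x : GL Ix K) : Matrix Ix Ix K).mulVec v = c • v := by
  obtain ⟨⟨a, b⟩, h1, h2⟩ := x
  have h3 : b = 1 := hx
  subst h3
  exact scalar_of_rel_one h1

theorem solvable_PG {H : Subgroup ↥(twistedD4 K q)} (hH : Group.IsSolvable ↥H) : Group.IsSolvable ↥(PG H) := by
  let f : ↥(PG H) →* ↥H := (p2 H).codRestrict H p2_mem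
  have hk : Group.IsSolvable ↥f.ker := by
    refine Group.isSolvable_of_comm fun a b => Subtype.ext (p1_injective H ?_)
    have ha : p2 H a = 1 := congrArg Subtype.val (MonoidHom.mem_ker.1 a.2)
    have hb : p2 H b = 1 := congrArg Subtype.val (MonoidHom.mem_ker.1 b.2)
    obtain ⟨c, -, hc⟩ := scalar_of_p2 ha
    obtain ⟨d, -, hd⟩ := scalar_of_p2 hb
    rw [Subgroup.coe_mul, Subgroup.coe_mul, map_mul, map_mul]
    apply ext_act
    intro v
    rw [act_mul, act_mul, hc, hd, hd, hc, smul_comm]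
  exact Group.isSolvable_of_ker_le_range f.ker.subtype f (by rw [Subgroup.range_subtype])

/-- the representation on the natural module -/
noncomputable def rho (H : Subgroup ↥(twistedD4 K q)) : ↥(PG H) →* ((Ix → K) ≃ₗ[K] (Ix → K)) :=
  (LinearMap.GeneralLinearGroup.generalLinearEquiv K (Ix → K)).toMonoidHom.comp
    (Matrix.GeneralLinearGroup.toLin.toMonoidHom.comp (p1 H))

theorem rho_injective (H : Subgroup ↥(twistedD4 K q)) : Function.Injective (rho H) :=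
  (LinearMap.GeneralLinearGroup.generalLinearEquiv K (Ix → K)).injective.comp
    (Matrix.GeneralLinearGroup.toLin.injective.comp (p1_injective H))

theorem rho_coe (H : Subgroup ↥(twistedD4 K q)) (x : ↥(PG H)) :
    (rho H x : Module.End K (Ix → K)) = Matrix.toLinAlgEquiv' ((p1 H x : GL Ix K) : Matrix Ix Ix K) := rfl

theorem rho_cube {H : Subgroup ↥(twistedD4 K q)} {x : ↥(PG H)}
    (hx : (((p1 H x : GL Ix K) : Matrix Ix Ix K) - 1) ^ 3 = 0) :
    ((rho H x : Module.End K (Ix → K)) - 1) ^ 3 = 0 := by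
  have h1 := congrArg (Matrix.toLinAlgEquiv' (R := K) (n := Ix)) hx
  rwa [map_pow, map_sub, map_one, map_zero, ← rho_coe] at h1

/-- cubic elements have order `p` -/
theorem pow_eq_one_of_cube {p : ℕ} [Fact p.Prime] [CharP K p] (h3 : 3 ≤ p) {g : GL Ix K}
    (hg : ((g : Matrix Ix Ix K) - 1) ^ 3 = 0) : g ^ p = 1 := by
  apply Units.ext
  rw [Units.val_pow_eq_pow_val, Units.val_one]
  have h1 : ((g : Matrix Ix Ix K) - 1) ^ p = (g : Matrix Ix Ix K) ^ p - 1 := by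
    have := sub_pow_char_of_commute p (Commute.one_right (g : Matrix Ix Ix K))
    rw [this, one_pow]
  have h2 : ((g : Matrix Ix Ix K) - 1) ^ p = 0 := by
    obtain ⟨k, rfl⟩ := Nat.exists_eq_add_of_le h3
    rw [pow_add, hg, zero_mul]
  rw [h2] at h1
  exact (sub_eq_zero.1 h1.symm)

local notation "cG" => CoxeterMatrix.toCoxeterSystem CoxeterMatrix.G₂

/-- **Part (a) of the special pairs.** -/
theorem apair_only (hK : Fintype.card K = q ^ 3) (hφ : ∀ x, φ x = x ^ q) {p : ℕ} [Fact p.Prime] [CharP K p]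
    (hp5 : 5 ≤ p) {c d : ↥(twistedD4 K q)} (hcp : orderOf c = p)
    (hc : c ∈ RGD.Sup (X φ q) (RGD.Pos cG isCartan)) (hc' : c ∉ VJ cG isCartan (X φ q) {0})
    (hc1 : ¬ H798.T5Geo.NT cG isCartan (X φ q) c 1)
    (hd : ∀ g ∈ PJ cG isCartan (T K q) (X φ q) {0}, g * d * g⁻¹ ∈ RGD.Sup (X φ q) (RGD.Pos cG isCartan) ∧
      g * d * g⁻¹ ∉ VJ cG isCartan (X φ q) {1}) : APair (⊤ : Subgroup ↥(twistedD4 K q)) c d := by
  have hp : p.Prime := Fact.out
  have hW := H798.T5Tw.finW_D4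
  have R := Nodes.RGDTwD4.rgd cG hK hφ p
  have hG1 := Nodes.RGDTwD4.G1_eq_top cG hK hφ
  have hG := KFacts.RgdFilt.GG_eq_top (T := T K q) hG1
  have hF := (H798.T5Tw.intComm_D4 p hφ hK).filt (R := R)
  refine ⟨(n hφ 1 * n hφ 0)⁻¹, Subgroup.mem_top _, fun hsol => ?_⟩
  obtain ⟨d', hd'⟩ : ∃ d', d' = (n hφ 1 * n hφ 0)⁻¹ * d * (n hφ 1 * n hφ 0)⁻¹⁻¹ := ⟨_, rfl⟩
  rw [← hd'] at hsol
  obtain ⟨H, hH⟩ : ∃ H : Subgroup ↥(twistedD4 K q), H = Subgroup.closure ({c, d'} : Set ↥(twistedD4 K q)) := ⟨_, rfl⟩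
  rw [← hH] at hsol
  have hcH : c ∈ H := by rw [hH]; exact Subgroup.subset_closure (by simp)
  have hdH : d' ∈ H := by rw [hH]; exact Subgroup.subset_closure (by simp)
  -- the lift of `c`
  have hcV : c ∈ VJ cG isCartan (X φ q) {1} := by
    have := H798.T5Geo.mem_V_of_not_NT hc1 1 (by rwa [one_mul, inv_one, mul_one])
    rwa [one_mul, inv_one, mul_one] at this
  obtain ⟨g, hg, hg3⟩ := exists_cubic (H106.MTwD4.coe_V1 cG hcV)
  let x : ↥(PG H) := ⟨(g, c), hg, hcH⟩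
  have hxo : orderOf x = p := by
    refine orderOf_eq_prime ?_ ?_
    · refine p1_injective H ?_
      rw [map_pow, map_one]
      exact pow_eq_one_of_cube (by omega) hg3
    · intro h1
      have h2 : c = 1 := congrArg (p2 H) h1
      rw [h2, orderOf_one] at hcp
      exact hp.one_lt.ne hcp
  refine HH.hh_false hp5 (solvable_PG hsol) ?_ (rho H) (rho_injective H) hxo (rho_cube hg3)
  intro N hNn hN
  -- the image in the group
  have hNp : IsPGroup p (N.map (p2 H)) := hN.map _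
  have hnorm : ∀ y ∈ H, y ∈ Subgroup.normalizer ((N.map (p2 H) : Subgroup ↥(twistedD4 K q)) : Set ↥(twistedD4 K q)) := by
    have key : ∀ y ∈ H, ∀ m ∈ N.map (p2 H), y * m * y⁻¹ ∈ N.map (p2 H) := by
      rintro y hy _ ⟨w, hw, rfl⟩
      obtain ⟨e, rfl⟩ := exists_p2 hφ hy
      exact ⟨e * w * e⁻¹, hNn.conj_mem w hw e, by rw [map_mul, map_mul, map_inv]⟩
    intro y hy
    rw [Subgroup.mem_normalizer_iff]
    intro m
    refine ⟨key y hy m, fun hm => ?_⟩
    have h1 := key y⁻¹ (inv_mem hy) _ hm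
    have e : y⁻¹ * (y * m * y⁻¹) * y⁻¹⁻¹ = m := by group
    rwa [e] at h1
  have hbot : N.map (p2 H) = ⊥ := by
    by_contra hne
    refine core_false R hF hG (i := 0) (j := 1) (by decide) (by decide) (fun k => by fin_cases k <;> simp) hc hc' hc1
      hd hNp hne (hnorm c hcH) ?_
    rw [← hd']
    exact hnorm d' hdH
  rw [eq_bot_iff]
  intro w hw
  have h1 : p2 H w = 1 := by
    have : p2 H w ∈ N.map (p2 H) := ⟨w, hw, rfl⟩
    rwa [hbot, Subgroup.mem_bot] at this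
  obtain ⟨s, hs2, hs⟩ := scalar_of_p2 h1
  have h2 : w ^ 2 = 1 := by
    refine p1_injective H ?_
    rw [map_pow, map_one]
    apply ext_act
    intro v
    rw [pow_two, act_mul, hs, hs, smul_smul, ← pow_two, hs2, one_smul, act_one]
  obtain ⟨k, hk⟩ := hN ⟨w, hw⟩
  have h3 : w ^ p ^ k = 1 := by simpa using congrArg Subtype.val hk
  rw [Subgroup.mem_bot, ← orderOf_eq_one_iff]
  refine Nat.eq_one_of_dvd_coprimes ?_ (orderOf_dvd_of_pow_eq_one h2) (orderOf_dvd_of_pow_eq_one h3)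
  exact Nat.Coprime.pow_right k ((Nat.coprime_primes Nat.prime_two hp).2 (by omega))

end Cfsg.Agent.H951.S5.D4Pair
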