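import Cfsg.Agent.H798.T5Line
import Cfsg.Agent.H132.S5.Tools

/-!
# The strong row on the projective line (S2274)

* `pslEquiv` : the group generated by the root groups of the projective line is `PSL₂(F)`;
* `spair_line` : two permutations `f₁`, `f₂` of order `p` permuting the root groups are a strong pair, given the strong
  row of `PSL₂(F)`.
-/

set_option autoImplicit false
set_option linter.unusedSectionVars false

namespace Cfsg.Agent.H951.S5.Line

open Cfsg.Agent.FixBN Cfsg.Agent.FixBN.RankOneL2 Cfsg.Agent.H14.CycLine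
open Cfsg.Agent.H533.T5 Cfsg.Agent.H132.S5 Cfsg.Agent.H798.T5Line

variable {F : Type*} [Field F]

local notation "S2" => Matrix.SpecialLinearGroup (Fin 2) F

/-- the action of a matrix on `F × F` -/
def act (A : S2) (v : F × F) : F × F :=
  ((A : Matrix (Fin 2) (Fin 2) F) 0 0 * v.1 + (A : Matrix (Fin 2) (Fin 2) F) 0 1 * v.2,
    (A : Matrix (Fin 2) (Fin 2) F) 1 0 * v.1 + (A : Matrix (Fin 2) (Fin 2) F) 1 1 * v.2)

theorem act_mul (A B : S2) (v : F × F) : act (A * B) v = act A (act B v) := by
  unfold act
  rw [Matrix.SpecialLinearGroup.coe_mul]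
  simp only [Matrix.mul_apply, Fin.sum_univ_two]
  ext
  · show _ = _; ring
  · show _ = _; ring

theorem act_one (v : F × F) : act (1 : S2) v = v := by
  unfold act
  rw [Matrix.SpecialLinearGroup.coe_one]
  simp

/-- the linear map of a matrix -/
def lin (A : S2) : (F × F) ≃ₗ[F] (F × F) where
  toFun := act A
  invFun := act A⁻¹
  left_inv v := by rw [← act_mul, inv_mul_cancel, act_one]
  right_inv v := by rw [← act_mul, mul_inv_cancel, act_one]
  map_add' v w := by
    unfold act
    ext
    · simp; ring
    · simp; ring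
  map_smul' a v := by
    unfold act
    ext
    · simp; ring
    · simp; ring

theorem om_lin (A : S2) : om (lin A (1, 0)) (lin A (0, 1)) = 1 := by
  have h := A.det_coe
  rw [Matrix.det_fin_two] at h
  show (act A (1, 0)).1 * (act A (0, 1)).2 - (act A (1, 0)).2 * (act A (0, 1)).1 = 1
  unfold act
  simp
  linear_combination h

/-- the lift determines the permutation -/
theorem uniq {c d : Equiv.Perm (Option F)} {φ ψ : F ≃+* F} {T S : (F × F) ≃+ (F × F)} (hc : Lift c φ T)
    (hd : Lift d ψ S) (h : ∀ v, T v = S v) : c = d := by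
  apply Equiv.ext
  intro y
  obtain ⟨v, hv, rfl⟩ := pt_surj y
  rw [hc.act v hv, hd.act v hv, h]

/-- the permutation of the projective line of a matrix -/
noncomputable def rho (A : S2) : Equiv.Perm (Option F) := (exists_of_sl (om_lin A)).choose

theorem rho_mem (A : S2) : rho A ∈ psl2 F := (exists_of_sl (om_lin A)).choose_spec.1

theorem rho_lift (A : S2) : Lift (rho A) (RingEquiv.refl F) (lin A).toAddEquiv :=
  (exists_of_sl (om_lin A)).choose_spec.2

/-- the representation on the projective line -/
noncomputable def rep : S2 →* ↥(psl2 F) where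
  toFun A := ⟨rho A, rho_mem A⟩
  map_one' := Subtype.ext (uniq (rho_lift 1) Lift.one fun v => act_one v)
  map_mul' A B := Subtype.ext (uniq (rho_lift (A * B)) ((rho_lift A).mul (rho_lift B)) fun v => act_mul A B v)

theorem rep_surj : Function.Surjective (rep : S2 →* ↥(psl2 F)) := by
  rintro ⟨g, hg⟩
  obtain ⟨T, hT, hL⟩ := lift_psl2 hg
  have hdet : (!![(T (1, 0)).1, (T (0, 1)).1; (T (1, 0)).2, (T (0, 1)).2] : Matrix (Fin 2) (Fin 2) F).det = 1 := by
    have h := hT (1, 0) (0, 1)
    rw [Matrix.det_fin_two_of]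
    unfold om at h
    simp at h
    linear_combination h
  refine ⟨⟨_, hdet⟩, Subtype.ext (uniq (rho_lift _) hL fun v => ?_)⟩
  have h1 : v = v.1 • ((1, 0) : F × F) + v.2 • ((0, 1) : F × F) := by
    ext <;> simp
  have h2 : T v = v.1 • T (1, 0) + v.2 • T (0, 1) := by
    conv_lhs => rw [h1]
    rw [map_add, hL.semi, hL.semi]
    rfl
  show act _ v = T v
  rw [h2]
  unfold act
  ext
  · simp; ring
  · simp; ring

theorem ker_rep : (rep : S2 →* ↥(psl2 F)).ker = Subgroup.center S2 := by
  ext A
  rw [MonoidHom.mem_ker]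
  constructor
  · intro h
    have h1 : rho A = 1 := congrArg Subtype.val h
    have h2 := rho_lift A
    rw [h1] at h2
    obtain ⟨⟨a, ha, hv⟩, -⟩ := h2.scalar
    rw [Matrix.SpecialLinearGroup.mem_center_iff]
    have e1 : act A (1, 0) = a • ((1, 0) : F × F) := hv (1, 0)
    have e2 : act A (0, 1) = a • ((0, 1) : F × F) := hv (0, 1)
    unfold act at e1 e2
    simp at e1 e2
    have hA : (A : Matrix (Fin 2) (Fin 2) F) = Matrix.scalar (Fin 2) a := by
      ext i j
      fin_cases i <;> fin_cases j
      · simpa using e1.1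
      · simpa using e2.1
      · simpa using e1.2
      · simpa using e2.2
    refine ⟨a, ?_, hA.symm⟩
    have h3 := A.det_coe
    rw [hA] at h3
    simpa [Matrix.det_fin_two, pow_two] using h3
  · intro h
    obtain ⟨a, ha, hA⟩ := Matrix.SpecialLinearGroup.mem_center_iff.1 h
    have ha0 : a ≠ 0 := by
      rintro rfl
      simp at ha
    have hL : Lift (1 : Equiv.Perm (Option F)) (RingEquiv.refl F) (lin A).toAddEquiv := by
      refine ⟨(rho_lift A).semi, fun v hv => ?_⟩
      have h1 : lin A v = a • v := by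
        show act A v = a • v
        unfold act
        rw [← hA]
        ext <;> simp
      show pt v = pt (lin A v)
      rw [h1, pt_smul ha0]
    exact Subtype.ext (uniq (rho_lift A) hL fun v => rfl)

/-- **The group generated by the root groups of the projective line is `PSL₂(F)`.** -/
noncomputable def pslEquiv : Matrix.ProjectiveSpecialLinearGroup (Fin 2) F ≃* ↥(psl2 F) :=
  (QuotientGroup.quotientMulEquivOfEq ker_rep.symm).trans (QuotientGroup.quotientKerEquivOfSurjective _ rep_surj)

/-- faithful -/
theorem eq_one_of_commute [Finite F] {f : Equiv.Perm (Option F)}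
    (hf : ∀ r ∈ psl2 F, Commute r f) : f = 1 := by
  by_contra hne
  have hy : ∃ y, f y ≠ y := by
    by_contra hcon
    push Not at hcon
    exact hne (Equiv.ext hcon)
  obtain ⟨y, hy⟩ := hy
  -- a third point
  have h3 : ∃ w, w ≠ y ∧ w ≠ f y := by
    by_contra hcon
    push Not at hcon
    classical
    have := Fintype.ofFinite F
    have h4 : Fintype.card (Option F) ≤ 2 := by
      have h5 : (Finset.univ : Finset (Option F)) ⊆ {y, f y} := by
        intro w _
        rw [Finset.mem_insert, Finset.mem_singleton]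
        by_cases h6 : w = y
        · exact Or.inl h6
        · exact Or.inr (hcon w h6)
      exact (Finset.card_le_card h5).trans Finset.card_le_two
    have h5 : ∀ a b : Option F, a ≠ b → ∀ c : Option F, c = a ∨ c = b := by
      intro a b hab c
      by_contra h6
      push Not at h6
      have h7 : ({a, b, c} : Finset (Option F)).card = 3 := by
        rw [Finset.card_eq_three]
        exact ⟨a, b, c, hab, h6.1.symm, h6.2.symm, rfl⟩
      have h8 : ({a, b, c} : Finset (Option F)).card ≤ Fintype.card (Option F) := Finset.card_le_univ _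
      omega
    rcases h5 none (some 0) (by simp) (some 1) with h | h
    · simp at h
    · exact one_ne_zero (Option.some_injective _ h)
  obtain ⟨w, hw1, hw2⟩ := h3
  obtain ⟨g, hg, h1, h1'⟩ := exists_psl2 (Ne.symm hy)
  obtain ⟨g', hg', h2, h2'⟩ := exists_psl2 (Ne.symm hw1)
  have hm : g' * g⁻¹ ∈ psl2 F := mul_mem hg' (inv_mem hg)
  have e1 : (g' * g⁻¹ : Equiv.Perm (Option F)) y = y := by
    rw [← h1]
    show g' (g⁻¹ (g none)) = g none
    have e0 : g⁻¹ (g none) = none := g.symm_apply_apply none
    rw [e0, h2, h1]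
  have e2 : (g' * g⁻¹ : Equiv.Perm (Option F)) (f y) = w := by
    rw [← h1', ← h2']
    show g' (g⁻¹ (g (some 0))) = _
    have e0 : g⁻¹ (g (some 0)) = some 0 := g.symm_apply_apply _
    rw [e0]
  have e3 := congrArg (fun t : Equiv.Perm (Option F) => t y) (hf _ hm).eq
  simp only [Equiv.Perm.mul_apply] at e1 e2 e3
  rw [e2, e1] at e3
  exact hw2 e3

/-- **The strong row on the line.** -/
theorem spair_line [Finite F] {p : ℕ} (hp : p.Prime)
    (hrow : SRow p ↥(psl2 F)) {f₁ f₂ : Equiv.Perm (Option F)}
    (h₁ : f₁ ∈ famStab (lineFam F)) (h₂ : f₂ ∈ famStab (lineFam F)) (o₁ : orderOf f₁ = p) (o₂ : orderOf f₂ = p) :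
    SPair p (⨆ y, lineFam F y) f₁ f₂ := by
  have hnorm : ∀ f ∈ famStab (lineFam F), f ∈ Subgroup.normalizer (psl2 F : Set (Equiv.Perm (Option F))) := by
    have key : ∀ f ∈ famStab (lineFam F), ∀ g ∈ psl2 F, f * g * f⁻¹ ∈ psl2 F := by
      intro f hf g hg
      rw [← iSup_lineFam] at hg
      have h4 : (⨆ y, lineFam F y) ≤ (psl2 F).comap (MulAut.conj f).toMonoidHom := by
        refine iSup_le fun y g hg => ?_
        rw [Subgroup.mem_comap]
        show MulAut.conj f g ∈ psl2 F
        rw [MulAut.conj_apply, ← iSup_lineFam]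
        exact Subgroup.mem_iSup_of_mem (f y) ((hf y g).1 hg)
      exact h4 hg
    intro f hf
    rw [Subgroup.mem_normalizer_iff]
    intro g
    refine ⟨key f hf g, fun h => ?_⟩
    have h5 := key f⁻¹ (inv_mem hf) _ h
    have e : f⁻¹ * (f * g * f⁻¹) * f⁻¹⁻¹ = g := by group
    rwa [e] at h5
  have hne : ∀ f : Equiv.Perm (Option F), orderOf f = p → ∃ r ∈ psl2 F, ¬ Commute r f := by
    intro f hf
    by_contra hcon
    push Not at hcon
    rw [eq_one_of_commute hcon, orderOf_one] at hf
    exact hp.one_lt.ne hf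
  rw [iSup_lineFam]
  exact spair_of_simple hp le_rfl hrow o₁ o₂ (hnorm _ h₁) (hnorm _ h₂) (hne _ o₁) (hne _ o₂)

end Cfsg.Agent.H951.S5.Line
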