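import Cfsg.Agent.H951.S5.TwD
import Cfsg.Agent.H951.S5.TwE

/-!
# The strong rows of `²E₆(q)`, `³D₄(q)` in the defining characteristic (S2274, O6), as an `SRowFam`
-/

set_option autoImplicit false

universe u

namespace Cfsg.Agent.H951.S5

open Cfsg Cfsg.Agent.H533.T5 Cfsg.Agent.H132.S5

/-- **The twisted exceptional groups in the defining characteristic.** -/
theorem ownTw {p : ℕ} (hp : p.Prime) (h5 : 5 ≤ p) (B : SBox.{u} p) :
    SRowFam.{u} p (fun S _ => IsTwistedE6D4Char p S) := by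
  intro S _ _ _ _ h hlt
  have : Fact p.Prime := ⟨hp⟩
  obtain ⟨K, _, _, _, q, hq, ⟨hK, ⟨e⟩⟩ | ⟨hK, ⟨e⟩⟩⟩ := h
  · exact TwE.srow_twE6_own p hp h5 B hq hK e hlt
  · exact TwD.srow_twD4_own p hp h5 B hq hK e

end Cfsg.Agent.H951.S5
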