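import Cfsg.Agent.H951.S5.Line
import Cfsg.Agent.H798.T5Pan

/-!
# Strong pairs of automorphisms acting on panels of a common type (S2274, own characteristic)

The strong version of `H798.T5Pan`: `SP2 p fam`, `sp2_pan`, `spair_pan`, `TP.spair`.
-/

set_option autoImplicit false
set_option linter.unusedSectionVars false
set_option maxHeartbeats 400000

namespace Cfsg.Agent.H951.S5.TPan

open Cfsg Subgroup Cfsg.Agent.LieExceptional.BNPairCore Cfsg.Agent.Tits.Core Cfsg.Agent.Tits.Core.Bldg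
  Cfsg.Agent.Tits.OfBN Cfsg.Agent.Schreier.BNSch Cfsg.Agent.Tits.OppRes Cfsg.Agent.FixBN.OfBN
open Cfsg.Agent.FixBN (Sys Split famStab mem_famStab lineFam FieldNode)
open Cfsg.Agent.H460.Typed Cfsg.Agent.H460.Pan Cfsg.Agent.H460.EllC Cfsg.Agent.H460.PanL
  Cfsg.Agent.H185.TypedTw Cfsg.Agent.H460.EllPan Cfsg.Agent.H460.Engine
open Cfsg.Agent.H533.T5 Cfsg.Agent.H132.S5 Cfsg.Agent.H798.T5Pan

section Row

variable {Om Om' : Type*}

/-- two permutations of order `p` permuting the family are a strong pair -/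
def SP2 (p : ℕ) (fam : Om → Subgroup (Equiv.Perm Om)) : Prop :=
  ∀ f₁ ∈ famStab fam, ∀ f₂ ∈ famStab fam, orderOf f₁ = p → orderOf f₂ = p → SPair p (⨆ y, fam y) f₁ f₂

theorem SP2.map {p : ℕ} (e : Om ≃ Om') {U : Om → Subgroup (Equiv.Perm Om)}
    {U' : Om' → Subgroup (Equiv.Perm Om')} (hU : ∀ y g, g ∈ U y ↔ e.permCongr g ∈ U' (e y)) (h : SP2 p U) :
    SP2 p U' := by
  set F : Equiv.Perm Om ≃* Equiv.Perm Om' := e.permCongrHom with hF
  have hfa : ∀ g, F g = e.permCongr g := fun g => rfl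
  have hcy : ∀ (c : Equiv.Perm Om) y, (F c) (e y) = e (c y) := fun c y => by
    show e (c (e.symm (e y))) = e (c y)
    rw [e.symm_apply_apply]
  have hst : ∀ f, F f ∈ famStab U' → f ∈ famStab U := by
    intro f hf y g
    have := hf (e y) (F g)
    rwa [hcy, ← map_mul, ← map_inv, ← map_mul, hfa, hfa, ← hU, ← hU] at this
  have hsup : (⨆ y, U y).map F.toMonoidHom ≤ ⨆ y, U' y := by
    rw [Subgroup.map_le_iff_le_comap]
    refine iSup_le fun y g hg => ?_
    rw [Subgroup.mem_comap]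
    exact Subgroup.mem_iSup_of_mem (e y) ((hU y g).1 hg)
  intro f₁' h1 f₂' h2 o1 o2
  obtain ⟨f₁, rfl⟩ := F.surjective f₁'
  obtain ⟨f₂, rfl⟩ := F.surjective f₂'
  have ho : ∀ f : Equiv.Perm Om, orderOf (F f) = orderOf f := fun f =>
    orderOf_injective F.toMonoidHom F.injective f
  rw [ho] at o1 o2
  have := h f₁ (hst _ h1) f₂ (hst _ h2) o1 o2
  exact (this.of_injective F.toMonoidHom F.injective).mono hsup

end Row

variable {K : Type*} [Group K] [Finite K] {ℓ : ℕ} [Fact ℓ.Prime] {l : ℕ} {M : CoxeterMatrix (Fin l)} {Q : Fin l → ℕ}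

/-- the strong rows of the groups `PSL₂(F)` in characteristic `ℓ` -/
def RowTwo (ℓ Q : ℕ) : Prop := ∀ (F : Type) [Field F] [Finite F] [CharP F ℓ], Nat.card F = Q →
  SRow ℓ (Matrix.ProjectiveSpecialLinearGroup (Fin 2) F)

/-- the panels over fields, in the defining characteristic -/
theorem sp2_pan (E : Eng ℓ K M Q) {i : Fin l} (hrow : RowTwo ℓ (Q i)) (h : FNode E.P E.U (E.e i : K) (Q i))
    (x : K ⧸ E.P.B) : SP2 ℓ (E.sys.fam i x) := by
  induction x using QuotientGroup.induction_on with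
  | _ g =>
  obtain ⟨V, Nd, F, _, _, hQ, ⟨N⟩⟩ := h
  have hch : CharP F ℓ := by
    -- `F` embeds in a group of exponent a power of `ℓ`
    obtain ⟨r, hr⟩ := CharP.exists F
    have hrp : r.Prime := CharP.char_is_prime F r
    have h1 : ∀ (n : ℕ) (a : F), N.x (n • a) = (N.x a) ^ n := by
      intro n a
      induction n with
      | zero => rw [zero_smul, pow_zero]; exact N.x_zero
      | succ n ih => rw [succ_nsmul, N.add, ih, pow_succ]
    obtain ⟨n, hn⟩ := E.S.isP ⟨N.x 1, N.mem 1⟩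
    have h2 : (N.x 1) ^ ℓ ^ n = 1 := by simpa using congrArg Subtype.val hn
    rw [← h1] at h2
    have h3 : ((ℓ ^ n : ℕ) : F) = 0 := by
      rw [← nsmul_one]
      exact N.ne _ (by rw [h2]; exact one_mem _)
    rw [CharP.cast_eq_zero_iff F r] at h3
    have h4 := (Nat.prime_dvd_prime_iff_eq hrp Fact.out).1 (hrp.dvd_of_dvd_pow h3)
    rwa [← h4]
  have hr := Cfsg.Agent.H897.T5Sub.SRow.congr (Line.pslEquiv (F := F)) (hrow F hQ)
  exact SP2.map _ (H14.CycNode.iso_mk E.S E.e E.cs E.hcs i Nd N g fun y f => Iff.rfl)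
    (fun f₁ h1 f₂ h2 o1 o2 => Line.spair_line Fact.out hr h1 h2 o1 o2)

variable {E : Eng ℓ K M Q}

/-- the pairs (automorphism, action on the chambers) stabilising a panel -/
def PanG (E : Eng ℓ K M Q) (c : K ⧸ E.P.B) (i : Fin l) : Subgroup (MulAut K × Equiv.Perm (K ⧸ E.P.B)) where
  carrier := {w | Act E w.1 w.2 ∧ ∀ z, z ∈ E.Δ.Pan i c ↔ w.2 z ∈ E.Δ.Pan i c}
  one_mem' := ⟨Act.one, fun _ => Iff.rfl⟩
  mul_mem' := by
    rintro ⟨x, θ⟩ ⟨y, η⟩ ⟨h1, h2⟩ ⟨h3, h4⟩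
    exact ⟨h1.mul h3, fun z => (h4 z).trans (h2 _)⟩
  inv_mem' := by
    rintro ⟨x, θ⟩ ⟨h1, h2⟩
    refine ⟨h1.inv, fun z => ?_⟩
    have h3 := h2 (θ⁻¹ z)
    have h4 : θ (θ⁻¹ z) = z := θ.apply_symm_apply z
    dsimp only at h3
    rw [h4] at h3
    exact h3.symm

/-- the restriction to the panel -/
def res (c : K ⧸ E.P.B) (i : Fin l) : ↥(PanG E c i) →* Equiv.Perm (E.Δ.Pan i c) where
  toFun w := w.1.2.subtypePerm fun z => (w.2.2 z).symm
  map_one' := by ext z; rfl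
  map_mul' a b := by ext z; rfl

theorem res_apply {c : K ⧸ E.P.B} {i : Fin l} (w : ↥(PanG E c i)) (z : E.Δ.Pan i c) :
    (res c i w z : K ⧸ E.P.B) = w.1.2 z := rfl

/-- **Two automorphisms acting non-trivially on a panel of a common fixed chamber.** -/
theorem spair_pan {x y : MulAut K} {θ η : Equiv.Perm (K ⧸ E.P.B)} (hx : Act E x θ) (hy : Act E y η)
    (ox : orderOf x = ℓ) (oy : orderOf y = ℓ) {c : K ⧸ E.P.B} (hxc : θ c = c) (hyc : η c = c) {i : Fin l}
    (hnx : ∃ z ∈ E.Δ.Pan i c, θ z ≠ z) (hny : ∃ z ∈ E.Δ.Pan i c, η z ≠ z) (hP : SP2 ℓ (E.sys.fam i c)) :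
    SPair ℓ (MulAut.conj : K →* MulAut K).range x y := by
  have hℓ : ℓ.Prime := Fact.out
  let X : ↥(PanG E c i) := ⟨(x, θ), hx, fun z => hx.mem_pan hxc i z⟩
  let Y : ↥(PanG E c i) := ⟨(y, η), hy, fun z => hy.mem_pan hyc i z⟩
  let f₁ : Equiv.Perm (E.Δ.Pan i c) := res c i X
  let f₂ : Equiv.Perm (E.Δ.Pan i c) := res c i Y
  have hf₁ : ∀ z, (f₁ z : K ⧸ E.P.B) = θ z := fun z => rfl
  have hf₂ : ∀ z, (f₂ z : K ⧸ E.P.B) = η z := fun z => rfl
  have px : x ^ ℓ = 1 := by rw [← ox, pow_orderOf_eq_one]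
  have py : y ^ ℓ = 1 := by rw [← oy, pow_orderOf_eq_one]
  have o1 : orderOf f₁ = ℓ := by
    refine orderOf_eq_prime ?_ ?_
    · ext z
      rw [restr_pow hf₁, hx.pow_eq_one px]
      rfl
    · obtain ⟨z, hz, h⟩ := hnx
      intro h1
      apply h
      have := hf₁ ⟨z, hz⟩
      rw [h1] at this
      exact this.symm
  have o2 : orderOf f₂ = ℓ := by
    refine orderOf_eq_prime ?_ ?_
    · ext z
      rw [restr_pow hf₂, hy.pow_eq_one py]
      rfl
    · obtain ⟨z, hz, h⟩ := hny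
      intro h1
      apply h
      have := hf₂ ⟨z, hz⟩
      rw [h1] at this
      exact this.symm
  have h1 : SPair ℓ (⨆ y, E.sys.fam i c y) (res c i X) (res c i Y) :=
    hP f₁ (hx.famStab hf₁) f₂ (hy.famStab hf₂) o1 o2
  -- the inner part
  let S : Subgroup ↥(PanG E c i) :=
    (Subgroup.comap (MonoidHom.fst (MulAut K) (Equiv.Perm (K ⧸ E.P.B))) (MulAut.conj : K →* MulAut K).range).subgroupOf
      (PanG E c i)
  have hT : (⨆ y, E.sys.fam i c y) ≤ S.map (res c i) := by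
    intro m hm
    obtain ⟨k, hk⟩ := (iSup_le fun z => fam_le_ActG E.sys z) hm
    have hk' : ∀ z, z ∈ E.Δ.Pan i c ↔ k • z ∈ E.Δ.Pan i c := by
      intro z
      constructor
      · intro hz
        rw [← hk ⟨z, hz⟩]
        exact (m ⟨z, hz⟩).2
      · intro hz
        have h2 : k • (((m⁻¹) ⟨k • z, hz⟩ : E.Δ.Pan i c) : K ⧸ E.P.B) = k • z := by
          rw [← hk]
          have h3 : m (m⁻¹ ⟨k • z, hz⟩) = ⟨k • z, hz⟩ := m.apply_symm_apply _
          rw [h3]
        have h4 := MulAction.injective k h2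
        rw [← h4]
        exact ((m⁻¹) ⟨k • z, hz⟩).2
    refine ⟨⟨(MulAut.conj k, MulAction.toPerm k), Act.inner k, hk'⟩, ?_, ?_⟩
    · exact ⟨k, rfl⟩
    · ext z
      rw [res_apply]
      exact (hk z).symm
  have h2 : SPair ℓ S X Y := h1.of_hom hℓ (res c i) hT
  -- the projection
  let π : ↥(PanG E c i) →* MulAut K := (MonoidHom.fst (MulAut K) (Equiv.Perm (K ⧸ E.P.B))).comp (PanG E c i).subtype
  have hπ : Function.Injective π := by
    rw [injective_iff_map_eq_one]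
    rintro ⟨⟨a, b⟩, h3, h4⟩ h5
    have h6 : a = 1 := h5
    subst h6
    have h7 : b = 1 := h3.eq_one
    subst h7
    rfl
  have h3 := h2.of_injective π hπ
  refine h3.mono ?_
  rintro _ ⟨w, hw, rfl⟩
  exact hw

/-- **A common type.** -/
theorem TP.spair {i : Fin l} (hrow : RowTwo ℓ (Q i)) (hF : FNode E.P E.U (E.e i : K) (Q i)) {x y : MulAut K}
    (hx : TP E x i) (hy : TP E y i) (ox : orderOf x = ℓ) (oy : orderOf y = ℓ) :
    SPair ℓ (MulAut.conj : K →* MulAut K).range x y := by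
  obtain ⟨θ, hθ, c, hc, z, hz, hz'⟩ := hx
  obtain ⟨η, hη, d, hd, w, hw, hw'⟩ := hy
  obtain ⟨g, rfl⟩ : ∃ g : K, g • d = c := by
    obtain ⟨a, rfl⟩ := QuotientGroup.mk_surjective c
    obtain ⟨b, rfl⟩ := QuotientGroup.mk_surjective d
    exact ⟨a * b⁻¹, by rw [smul_mk, inv_mul_cancel_right]⟩
  refine SPair.conj_right (s := MulAut.conj g) ⟨g, rfl⟩ ?_
  have h1 : Act E (MulAut.conj g * y * (MulAut.conj g)⁻¹) (MulAction.toPerm g * η * (MulAction.toPerm g)⁻¹) :=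
    ((Act.inner g).mul hη).mul (Act.inner g).inv
  have h2 : ∀ a, (MulAction.toPerm g * η * (MulAction.toPerm g)⁻¹ : Equiv.Perm (K ⧸ E.P.B)) (g • a) = g • η a := by
    intro a
    rw [Equiv.Perm.mul_apply, Equiv.Perm.mul_apply]
    have : (MulAction.toPerm g)⁻¹ (g • a) = a := (MulAction.toPerm g).symm_apply_apply a
    rw [this]
    rfl
  refine spair_pan hθ h1 ox ?_ hc (by rw [h2, hd]) ⟨z, hz, hz'⟩ ⟨g • w, ?_, ?_⟩ (sp2_pan E hrow hF _)
  · have h3 : orderOf (MulAut.conj (MulAut.conj g) y) = orderOf y := MulEquiv.orderOf_eq _ _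
    rwa [MulAut.conj_apply, oy] at h3
  · have h3 := (Act.inner (E := E) g).iso d w
    rw [E.Δ.Pan_eq_Res, mem_Res] at hw ⊢
    rw [← h3] at hw
    exact hw
  · rw [h2]
    intro h3
    exact hw' (MulAction.injective g h3)

end Cfsg.Agent.H951.S5.TPan
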